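import Cfsg.Agent.Schur.Sz8.Base

set_option autoImplicit false
set_option maxRecDepth 100000

namespace Cfsg.Agent.Schur.Sz8
open Cfsg.Agent.Comp Cfsg.Agent.Schur

namespace P2

noncomputable def x0 : Net :=
(Net.cons (nat_lit 0x68437c3c) (nat_lit 33)
(Net.cons (nat_lit 0x1fe840000a662) (nat_lit 16)
(Net.cons (nat_lit 0x1f001d000f20072) (nat_lit 8)
(Net.cons (nat_lit 0x1814180c0104020a) (nat_lit 4)
(Net.cons (nat_lit 0x40400000202000) (nat_lit 2)
(Net.cons (nat_lit 0x40000000) (nat_lit 1)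
(Net.cons (nat_lit 0x80000000) (nat_lit 1)
(Net.cons (nat_lit 0x20200241141514) (nat_lit 1)
(Net.cons (nat_lit 0x6022426030032102) (nat_lit 2)
(Net.cons (nat_lit 0x1e00001c05080b0c) (nat_lit 4)
(Net.cons (nat_lit 0x10004e000c00b0) (nat_lit 8)
(Net.cons (nat_lit 0x1efba000042d2) (nat_lit 16)
(Net.cons (nat_lit 0x7ce8d082) (nat_lit 33)
Net.nil)))))))))))))

noncomputable def x1 : Net :=
(Net.cons (nat_lit 0x271ecb1e) (nat_lit 33)
(Net.cons (nat_lit 0x172e000007980) (nat_lit 16)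
(Net.cons (nat_lit 0x1e0008400620098) (nat_lit 8)
(Net.cons (nat_lit 0x800010c0c06) (nat_lit 4)
(Net.cons (nat_lit 0x4040004402002220) (nat_lit 2)
(Net.cons (nat_lit 0x40000000) (nat_lit 1)
(Net.cons (nat_lit 0x80000000) (nat_lit 1)
(Net.cons (nat_lit 0x8228a82241154114) (nat_lit 1)
(Net.cons (nat_lit 0x244260632012210) (nat_lit 2)
(Net.cons (nat_lit 0xc16041a030d0c0a) (nat_lit 4)
(Net.cons (nat_lit 0x11c0196008c00b2) (nat_lit 8)
(Net.cons (nat_lit 0x2dc2000009ba) (nat_lit 16)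
(Net.cons (nat_lit 0x7c694e10) (nat_lit 33)
Net.nil)))))))))))))

noncomputable def x2 : Net :=
(Net.cons (nat_lit 0x335b1a25) (nat_lit 33)
(Net.cons (nat_lit 0x1c8600000ca0d) (nat_lit 16)
(Net.cons (nat_lit 0x17c0070004400cc) (nat_lit 8)
(Net.cons (nat_lit 0x400141802080e0e) (nat_lit 4)
(Net.cons (nat_lit 0x4400004012202000) (nat_lit 2)
(Net.cons (nat_lit 0x40000000) (nat_lit 1)
(Net.cons (nat_lit 0x80000000) (nat_lit 1)
(Net.cons (nat_lit 0x82a82a8054104014) (nat_lit 1)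
(Net.cons (nat_lit 0x4064422022310101) (nat_lit 2)
(Net.cons (nat_lit 0x140c081c0b040c0d) (nat_lit 4)
(Net.cons (nat_lit 0x17400e000b60044) (nat_lit 8)
(Net.cons (nat_lit 0x4f940000707c) (nat_lit 16)
(Net.cons (nat_lit 0xd6e0177f) (nat_lit 33)
Net.nil)))))))))))))

noncomputable def x3 : Net :=
(Net.cons (nat_lit 0x60d0490e) (nat_lit 33)
(Net.cons (nat_lit 0x16ee80000890b) (nat_lit 16)
(Net.cons (nat_lit 0xe0003000a60058) (nat_lit 8)
(Net.cons (nat_lit 0x140c0c000c080808) (nat_lit 4)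
(Net.cons (nat_lit 0x44000002000) (nat_lit 2)
(Net.cons (nat_lit 0x40000000) (nat_lit 1)
(Net.cons (nat_lit 0x80000000) (nat_lit 1)
(Net.cons (nat_lit 0x220282855441005) (nat_lit 1)
(Net.cons (nat_lit 0x6006400421303330) (nat_lit 2)
(Net.cons (nat_lit 0x140c041c0f0a0704) (nat_lit 4)
(Net.cons (nat_lit 0x1e801ce00fc00e4) (nat_lit 8)
(Net.cons (nat_lit 0x16ee80000e39b) (nat_lit 16)
(Net.cons (nat_lit 0x60d0490e) (nat_lit 33)
Net.nil)))))))))))))

noncomputable def x4 : Net :=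
(Net.cons (nat_lit 0x425ff050) (nat_lit 33)
(Net.cons (nat_lit 0x192a80000905e) (nat_lit 16)
(Net.cons (nat_lit 0x4001e0002e0030) (nat_lit 8)
(Net.cons (nat_lit 0x808080c0d080402) (nat_lit 4)
(Net.cons (nat_lit 0x4040400000002000) (nat_lit 2)
(Net.cons (nat_lit 0x40000000) (nat_lit 1)
(Net.cons (nat_lit 0x80000000) (nat_lit 1)
(Net.cons (nat_lit 0x8a822a0a45554054) (nat_lit 1)
(Net.cons (nat_lit 0x4004004020032232) (nat_lit 2)
(Net.cons (nat_lit 0x1a0e18060a0704) (nat_lit 4)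
(Net.cons (nat_lit 0x9e01ae001e0058) (nat_lit 8)
(Net.cons (nat_lit 0xb74e0000172e) (nat_lit 16)
(Net.cons (nat_lit 0x8a37330a) (nat_lit 33)
Net.nil)))))))))))))

noncomputable def x5 : Net :=
(Net.cons (nat_lit 0x26b2954) (nat_lit 33)
(Net.cons (nat_lit 0x675c0000deac) (nat_lit 16)
(Net.cons (nat_lit 0x14005800d800e0) (nat_lit 8)
(Net.cons (nat_lit 0x4181c0d0c000e) (nat_lit 4)
(Net.cons (nat_lit 0x4040040030202020) (nat_lit 2)
(Net.cons (nat_lit 0x80000000) (nat_lit 1)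
(Net.cons (nat_lit 0x882228a015411414) (nat_lit 1)
(Net.cons (nat_lit 0x2626444633111100) (nat_lit 2)
(Net.cons (nat_lit 0xc02181c0d0b0f0c) (nat_lit 4)
(Net.cons (nat_lit 0x1ea007800d400da) (nat_lit 8)
(Net.cons (nat_lit 0x775c0000deae) (nat_lit 16)
(Net.cons (nat_lit 0x1b45a546) (nat_lit 33)
Net.nil))))))))))))

noncomputable def R0 : List Net := [x0, x1, x2, x3, x4, x5]

noncomputable def R : List Net := R0 ++ Cfsg.Agent.SchurG.Sz8.T

theorem ok : TOK 65 R := tok_append (TOK_of_ok (by decide +kernel)) Cfsg.Agent.SchurG.Sz8.ok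

def D : List (List Nat × List Nat) :=
  [([0], [7, 9, 6, 8, 8, 6, 6]),
   ([1], [8, 6, 9, 7]),
   ([2], [9, 6, 9, 6, 8, 6, 6, 6])]

theorem defs : ∀ e ∈ D, ev (sig R) e.1 = ev (sig R) e.2 :=
  eq_of_eqsP ok (by norm_num) (show eqsP (nat_lit 65) (nat_lit 7) (nat_lit 0) (nat_lit 7) R D = true by decide +kernel)

def T : List (List (List Nat)) :=
  [[[3]],
   [[1, 4], [5]],
   [[2, 5], [2, 3, 4, 5], [4, 5]],
   [[3], [3], [3], []],
   [[4], [4], [4], [4], []],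
   [[5], [5], [5], [5], [5], []]]

def Y : List (Nat × List Nat × List Nat) :=
  []

theorem eqs : ∀ e ∈ (pcEqs 2 6 T ++ stEqs Y), ev (sig R) e.1 = ev (sig R) e.2 :=
  eq_of_eqsP ok (by norm_num) (show eqsP (nat_lit 65) (nat_lit 7) (nat_lit 0) (nat_lit 7) R (pcEqs 2 6 T ++ stEqs Y) = true by decide +kernel)

def D2 : List (List Nat × List Nat) :=
  [([3], [0, 0]),
   ([0, 1, 4], [1, 0]),
   ([5], [1, 1])]

theorem allIn : AllIn Cfsg.Agent.SchurG.Sz8.phi.range R :=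
  AllIn.ext Cfsg.Agent.Schur.Sz8.allIn (o := 6) rfl (eqs_append defs (eqs_swap (D := D2) eqs (by decide +kernel))) (by decide +kernel)

def lv : List (List (List Nat) × List Nat × Nat × Nat) :=
  [([[0], [1], [3], [5], [2], [4, 5]], [0, 1, 2, 3, 4, 0, 1], 1, 64)]

theorem low : 2 ^ 6 ≤ Nat.card (gen (sig R) 6) :=
  low_gen (l := 7) (lv := lv) ok (by norm_num) (by decide +kernel) (by decide +kernel)

def I0 : List Ins :=
  [Ins.cons (nat_lit 0x1) (nat_lit 1) (nat_lit 0x41) (nat_lit 0x703),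
   Ins.cons (nat_lit 0x2) (nat_lit 1) (nat_lit 0x82) (nat_lit 0x1103),
   Ins.cons (nat_lit 0x4) (nat_lit 1) (nat_lit 0x84) (nat_lit 0x802),
   Ins.cons (nat_lit 0x4) (nat_lit 1) (nat_lit 0xc4) (nat_lit 0x902),
   Ins.cons (nat_lit 0x5) (nat_lit 1) (nat_lit 0x41) (nat_lit 0xe0100b02),
   Ins.cons (nat_lit 0x6) (nat_lit 1) (nat_lit 0x41) (nat_lit 0x130101002),
   Ins.cons (nat_lit 0x5) (nat_lit 1) (nat_lit 0x82) (nat_lit 0x140300c02),
   Ins.cons (nat_lit 0x3) (nat_lit 1) (nat_lit 0xc3) (nat_lit 0x120300d03),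
   Ins.cons (nat_lit 0x2) (nat_lit 1) (nat_lit 0x41) (nat_lit 0xf0300b030080300202),
   Ins.cons (nat_lit 0x3) (nat_lit 1) (nat_lit 0x41) (nat_lit 0x1503010030090300402),
   Ins.cons (nat_lit 0x2) (nat_lit 1) (nat_lit 0x42) (nat_lit 0x14020100300f0100c0100202),
   Ins.cons (nat_lit 0x3) (nat_lit 1) (nat_lit 0x43) (nat_lit 0x1501012010100300b0300402),
   Ins.cons (nat_lit 0x3) (nat_lit 1) (nat_lit 0x82) (nat_lit 0x15030140301303012030110300f0300e0300c0300a030080300502),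
   Ins.cons (nat_lit 0x3) (nat_lit 1) (nat_lit 0x83) (nat_lit 0x15010140101301012010110300f0100e0100d0100c0300a010090100502),
   Ins.cons (nat_lit 0x3) (nat_lit 1) (nat_lit 0x42) (nat_lit 0x140301303011010100300e0300d0300b0300703)]

theorem ins0 : InsOK 6 0 21 T Y 3 I0 :=
  InsOK.of 10 (show lall (insOK (nat_lit 6) (nat_lit 0) (nat_lit 10) (nat_lit 21) T Y (nat_lit 3)) I0 = true by decide +kernel)

def I : List Ins := I0

def K : List Nat :=
  [nat_lit 0x801,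
   nat_lit 0x901]

def O : List Nat :=
  [nat_lit 0x303,
   nat_lit 0x403]

def U : List Nat :=
  [nat_lit 0x503004010020100101,
   nat_lit 0x40300301,
   nat_lit 0x6010040300203,
   nat_lit 0x5020040200202,
   nat_lit 0x202,
   nat_lit 0x402]

def C : List (List Nat) :=
  [[nat_lit 0x0],
  [nat_lit 0x0,
   nat_lit 0x0],
  [nat_lit 0x0,
   nat_lit 0x0,
   nat_lit 0x0],
  [nat_lit 0x301,
   nat_lit 0x101,
   nat_lit 0x201,
   nat_lit 0x100100d0100c0100a0100901008010070100401],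
  [nat_lit 0x100100f0100e0100c0100a0100101,
   nat_lit 0x11010100100f0100d0100b01009010080100701004010030100201,
   nat_lit 0x100100f010020100101,
   nat_lit 0x701,
   nat_lit 0x100100f0100e0100c0100b0100a01],
  [nat_lit 0x110100e0100c0100a01009010080100701004010030100201,
   nat_lit 0x401,
   nat_lit 0x100100f0100a010020100101,
   nat_lit 0x801,
   nat_lit 0x901,
   nat_lit 0x110100e0100a010090100801007010040100301]]

theorem ord : ordsOK 2 (Nat.succ 3) 5 21 (insL I) K [1, 1] O = true :=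
  show ordsOK (nat_lit 2) (Nat.succ (nat_lit 3)) (nat_lit 5) (nat_lit 21) (insL I) K [1, 1] O = true by decide +kernel

theorem tgt0 : TgtOK 2 21 T 2 3 (K ++ insL I) U C 0 6 :=
  TgtOK.of 9 6 rfl (show tgtRows (nat_lit 2) (nat_lit 9) (nat_lit 21) T (nat_lit 2) (nat_lit 3) (K ++ insL I) U C (nat_lit 0) (nat_lit 6) = true by decide +kernel)

theorem gen : PGen Cfsg.Agent.SchurG.Sz8.G 2 [1, 1] :=
  haveI := Cfsg.Agent.Schur.Sz8.card.1
  pgen_net Cfsg.Agent.SchurG.Sz8.card.2.2 allIn Cfsg.Agent.Schur.Sz8.card.2 (by norm_num) rfl eqs low (by norm_num) (by decide +kernel) (E := 1) (I := I)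
    (ins0) ord (a := 1) tgt0 (by decide +kernel)

end P2

end Cfsg.Agent.Schur.Sz8
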